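import Groth.Agent.FppfLib.Section
import Mathlib.AlgebraicGeometry.Morphisms.Flat
import Mathlib.AlgebraicGeometry.Morphisms.FinitePresentation

/-! Local sections of flat morphisms of finite presentation onto absolutely integrally closed
affine schemes. -/

set_option autoImplicit false
universe u

open CategoryTheory AlgebraicGeometry TopologicalSpace TensorProduct

namespace FppfLib

variable {F C : Type u} [CommRing F] [CommRing C] [Algebra F C]

theorem exists_lift_away [Algebra.FinitePresentation F C] (q : Ideal F) [q.IsPrime]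
    (τ : C →ₐ[F] Localization.AtPrime q) :
    ∃ t ∉ q, Nonempty (C →ₐ[F] Localization.Away t) := by
  classical
  obtain ⟨n, f, hf, G, hG⟩ := Algebra.FinitePresentation.out (R := F) (A := C)
  let O := Localization.AtPrime q
  obtain ⟨⟨s, hs⟩, hsy⟩ := IsLocalization.exist_integer_multiples q.primeCompl
    (Finset.univ : Finset (Fin n)) fun i ↦ τ (f (MvPolynomial.X i))
  choose a ha using fun i ↦ hsy i (Finset.mem_univ i)
  let L := Localization.Away s
  let ψ : MvPolynomial (Fin n) F →ₐ[F] L :=
    MvPolynomial.aeval fun i ↦ IsLocalization.mk' L (a i) (⟨s, 1, pow_one s⟩ : Submonoid.powers s)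
  let res : L →ₐ[F] O := IsLocalization.liftAlgHom (M := Submonoid.powers s)
    (f := Algebra.ofId F O) (by
      rintro ⟨_, k, rfl⟩
      rw [map_pow]
      exact (IsLocalization.map_units O (⟨s, hs⟩ : q.primeCompl)).pow k)
  have hres : res.comp ψ = τ.comp f := by
    refine MvPolynomial.algHom_ext fun i ↦ ?_
    rw [AlgHom.comp_apply, AlgHom.comp_apply]
    show res (ψ (MvPolynomial.X i)) = _
    rw [MvPolynomial.aeval_X]
    apply (IsLocalization.map_units O (⟨s, hs⟩ : q.primeCompl)).mul_left_cancel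
    have h1 := congrArg res (IsLocalization.mk'_spec' L (a i)
      (⟨s, 1, pow_one s⟩ : Submonoid.powers s))
    rw [map_mul, AlgHom.commutes, AlgHom.commutes] at h1
    rw [h1, ha i, Algebra.smul_def]
  have hG' : ∀ k ∈ G, ∃ u ∉ q, ∀ (L' : Type u) [CommRing L'] [Algebra F L'] (e : L →ₐ[F] L'),
      IsUnit (algebraMap F L' u) → e (ψ k) = 0 := by
    intro k hk
    have h0 : res (ψ k) = 0 := by
      have : k ∈ RingHom.ker f.toRingHom := hG ▸ Ideal.subset_span hk
      rw [← AlgHom.comp_apply, hres, AlgHom.comp_apply, show f k = 0 from this, map_zero]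
    obtain ⟨⟨b, m⟩, hb⟩ := IsLocalization.surj (Submonoid.powers s) (ψ k)
    have h1 : algebraMap F O b = 0 := by
      rw [← AlgHom.commutes res, ← hb, map_mul, h0, zero_mul]
    obtain ⟨⟨u, hu⟩, hub⟩ := (IsLocalization.map_eq_zero_iff q.primeCompl O b).mp h1
    refine ⟨u, hu, fun L' _ _ e hu' ↦ ?_⟩
    have h2 : algebraMap F L' b = 0 := by
      refine hu'.mul_right_eq_zero.mp ?_
      rw [← map_mul, hub, map_zero]
    have h3 := congrArg e hb
    rw [map_mul, AlgHom.commutes, AlgHom.commutes, h2] at h3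
    have hmu : IsUnit (algebraMap F L' (m : F)) := by
      rw [← AlgHom.commutes e]
      exact (IsLocalization.map_units L m).map e
    exact hmu.mul_left_eq_zero.mp h3
  choose u hu hu0 using hG'
  let t := s * ∏ k : G, u k.1 k.2
  have ht : t ∉ q := by
    intro h
    rcases Ideal.IsPrime.mem_or_mem inferInstance h with h | h
    · exact hs h
    · obtain ⟨k, -, hk⟩ := Ideal.IsPrime.prod_mem_iff.mp h
      exact hu k.1 k.2 hk
  let L' := Localization.Away t
  have hunit : IsUnit (algebraMap F L' t) := IsLocalization.Away.algebraMap_isUnit t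
  rw [map_mul, IsUnit.mul_iff, map_prod] at hunit
  let e : L →ₐ[F] L' := IsLocalization.liftAlgHom (M := Submonoid.powers s)
    (f := Algebra.ofId F L') (by
      rintro ⟨_, k, rfl⟩
      rw [map_pow]
      exact hunit.1.pow k)
  refine ⟨t, ht, ⟨AlgHom.liftOfSurjective (A := MvPolynomial (Fin n) F) f hf (e.comp ψ) ?_⟩⟩
  show RingHom.ker f.toRingHom ≤ RingHom.ker (e.comp ψ).toRingHom
  rw [← hG, Ideal.span_le]
  intro k hk
  exact hu0 k hk L' e ((IsUnit.prod_univ_iff.mp hunit.2) ⟨k, hk⟩)

theorem exists_lift [Module.Flat F C] [Algebra.FinitePresentation F C] (q : Ideal F) [q.IsPrime]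
    [IsDomain (Localization.AtPrime q)] [IsIntegrallyClosed (Localization.AtPrime q)]
    [IsAlgClosed (FractionRing (Localization.AtPrime q))] (p : Ideal C) [p.IsPrime] [p.LiesOver q] :
    ∃ t ∉ q, Nonempty (C →ₐ[F] Localization.Away t) := by
  let O := Localization.AtPrime q
  let κ := p.ResidueField
  let ζ : O →ₐ[F] κ := IsLocalization.liftAlgHom (M := q.primeCompl) (f := Algebra.ofId F κ)
    fun s ↦ by
      refine isUnit_iff_ne_zero.mpr fun h ↦ s.2 ?_
      rw [show (Algebra.ofId F κ) (s : F) = algebraMap C κ (algebraMap F C s) from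
        IsScalarTower.algebraMap_apply F C κ s, Ideal.algebraMap_residueField_eq_zero] at h
      exact (Ideal.mem_of_liesOver p q _).mpr h
  let Φ : O ⊗[F] C →ₐ[F] κ :=
    Algebra.TensorProduct.lift ζ (IsScalarTower.toAlgHom F C κ) fun _ _ ↦ Commute.all _ _
  have hne : (IsLocalRing.maximalIdeal O).map (algebraMap O (O ⊗[F] C)) ≠ ⊤ := by
    refine ne_top_of_le_ne_top (RingHom.ker_ne_top Φ.toRingHom) ?_
    rw [Ideal.map_le_iff_le_comap, ← Localization.AtPrime.map_eq_maximalIdeal,
      Ideal.map_le_iff_le_comap]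
    intro a ha
    show Φ (algebraMap O (O ⊗[F] C) (algebraMap F O a)) = 0
    rw [← IsScalarTower.algebraMap_apply, AlgHom.commutes,
      IsScalarTower.algebraMap_apply F C κ, Ideal.algebraMap_residueField_eq_zero]
    exact (Ideal.mem_of_liesOver p q _).mp ha
  obtain ⟨σ⟩ := exists_algHom (O := O) (C := O ⊗[F] C) hne
  exact exists_lift_away q ((σ.restrictScalars F).comp Algebra.TensorProduct.includeRight)

theorem exists_local_section {F : CommRingCat.{u}} {X : Scheme.{u}} (g : X ⟶ Spec F) [Flat g]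
    [LocallyOfFinitePresentation g] [Surjective g]
    (hF : ∀ (q : Ideal F) [q.IsPrime], ∃ _ : IsDomain (Localization.AtPrime q),
      IsIntegrallyClosed (Localization.AtPrime q) ∧
        IsAlgClosed (FractionRing (Localization.AtPrime q))) (t : Spec F) :
    ∃ (V : (Spec F).Opens) (r : ↑V ⟶ X), t ∈ V ∧ r ≫ g = V.ι := by
  obtain ⟨x, rfl⟩ := g.surjective t
  obtain ⟨_, ⟨W, hW, rfl⟩, hxW, -⟩ :=
    X.isBasis_affineOpens.exists_subset_of_mem_open (Set.mem_univ x) isOpen_univ
  obtain ⟨p, rfl⟩ : x ∈ Set.range hW.fromSpec := by rwa [hW.range_fromSpec]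
  let η := Spec.preimage (hW.fromSpec ≫ g)
  have hη : Spec.map η = hW.fromSpec ≫ g := Spec.map_preimage _
  let _ := η.hom.toAlgebra
  have h1 : Flat (Spec.map η) := hη ▸ inferInstance
  have h2 : LocallyOfFinitePresentation (Spec.map η) := hη ▸ inferInstance
  have : Module.Flat F Γ(X, W) :=
    RingHom.flat_algebraMap_iff.mp ((HasRingHomProperty.Spec_iff (P := @Flat)).mp h1)
  have : Algebra.FinitePresentation F Γ(X, W) :=
    (HasRingHomProperty.Spec_iff (P := @LocallyOfFinitePresentation)).mp h2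
  let q : Ideal F := p.asIdeal.comap η.hom
  have : p.asIdeal.LiesOver q := ⟨rfl⟩
  obtain ⟨_, _, _⟩ := hF q
  obtain ⟨t, htq, ⟨τ⟩⟩ := exists_lift (C := Γ(X, W)) q p.asIdeal
  refine ⟨PrimeSpectrum.basicOpen t, (basicOpenIsoSpecAway t).hom ≫
    Spec.map (CommRingCat.ofHom τ.toRingHom) ≫ hW.fromSpec, ?_, ?_⟩
  · show g (hW.fromSpec p) ∈ PrimeSpectrum.basicOpen t
    rw [← Scheme.Hom.comp_apply, ← hη]
    exact htq
  · rw [Category.assoc, Category.assoc, ← hη, ← Spec.map_comp]
    refine Eq.trans ?_ (basicOpenIsoSpecAway_hom_SpecMap t)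
    congr 2
    ext a
    exact τ.commutes a

end FppfLib
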