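import Mathlib

/-! Absolute integral closures inside products of algebraically closed fields. -/

set_option autoImplicit false
universe u v

open Polynomial

namespace FppfLib

/-- Every monic polynomial of positive degree has a root. -/
def HasRoots (O : Type u) [CommRing O] : Prop :=
  ∀ p : O[X], p.Monic → p.natDegree ≠ 0 → ∃ x, p.IsRoot x

theorem isIntegrallyClosed_of_hasRoots {O : Type u} [CommRing O] [IsDomain O] (h : HasRoots O) :
    IsIntegrallyClosed O := by
  refine (isIntegrallyClosed_iff (FractionRing O)).mpr fun {x} hx ↦ ?_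
  obtain ⟨p, hp, hpx⟩ := hx
  induction hn : p.natDegree using Nat.strong_induction_on generalizing p with
  | _ n ih =>
    by_cases h0 : p.natDegree = 0
    · rw [hp.natDegree_eq_zero.mp h0] at hpx
      simp at hpx
    obtain ⟨a, ha⟩ := h p hp h0
    obtain ⟨q, rfl⟩ := dvd_iff_isRoot.mpr ha
    rw [eval₂_mul, eval₂_sub, eval₂_X, eval₂_C, mul_eq_zero] at hpx
    rcases hpx with hpx | hpx
    · exact ⟨a, (sub_eq_zero.mp hpx).symm⟩
    · have hq : q.Monic := (monic_X_sub_C a).of_mul_monic_left hp
      refine ih q.natDegree ?_ q hq hpx rfl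
      rw [← hn, (monic_X_sub_C a).natDegree_mul hq, natDegree_X_sub_C]
      omega

theorem isAlgClosed_fractionRing_of_hasRoots {O : Type u} [CommRing O] [IsDomain O]
    (h : HasRoots O) : IsAlgClosed (FractionRing O) := by
  classical
  let K := FractionRing O
  refine IsAlgClosed.of_exists_root K fun p hp hirr ↦ ?_
  obtain ⟨d, hd⟩ := IsLocalization.exist_integer_multiples (nonZeroDivisors O)
    (Finset.range p.natDegree) fun i ↦ p.coeff i
  have hd0 : (algebraMap O K d) ≠ 0 := fun h0 ↦ nonZeroDivisors.ne_zero d.2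
    ((map_eq_zero_iff _ (IsFractionRing.injective O K)).mp h0)
  have hlift : p.scaleRoots (algebraMap O K d) ∈ Polynomial.lifts (algebraMap O K) := by
    rw [lifts_iff_coeff_lifts]
    intro i
    rw [coeff_scaleRoots]
    rcases lt_trichotomy i p.natDegree with hi | hi | hi
    · obtain ⟨c, hc⟩ := hd i (Finset.mem_range.mpr hi)
      refine ⟨c * (d : O) ^ (p.natDegree - i - 1), ?_⟩
      rw [map_mul, map_pow, hc, Algebra.smul_def, mul_comm (algebraMap O K d) (p.coeff i), mul_assoc,
        ← pow_succ', Nat.sub_one_add_one (by omega)]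
    · subst hi
      exact ⟨1, by simp [hp.coeff_natDegree]⟩
    · exact ⟨0, by simp [coeff_eq_zero_of_natDegree_lt hi]⟩
  obtain ⟨q, hq, hqd, hqm⟩ := lifts_and_natDegree_eq_and_monic hlift
    ((monic_scaleRoots_iff _).mpr hp)
  have hpd : p.natDegree ≠ 0 := (hirr.natDegree_pos).ne'
  obtain ⟨r, hr⟩ := h q hqm (by rwa [hqd, natDegree_scaleRoots])
  refine ⟨algebraMap O K r / algebraMap O K d, ?_⟩
  have h1 : (p.scaleRoots (algebraMap O K d)).eval (algebraMap O K r) = 0 := by
    rw [← hq, eval_map, eval₂_hom, show q.eval r = 0 from hr, map_zero]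
  rw [show algebraMap O K r = algebraMap O K d * (algebraMap O K r / algebraMap O K d) from
    (mul_div_cancel₀ _ hd0).symm, scaleRoots_eval_mul] at h1
  exact (mul_eq_zero.mp h1).resolve_left (pow_ne_zero _ hd0)

variable {R : Type u} [CommRing R] {ι : Type v} {K : ι → Type v} [∀ i, Field (K i)]
  [∀ i, IsAlgClosed (K i)] [∀ i, Algebra R (K i)]

/-- The indicator of a set of indices, in the integral closure. -/
noncomputable def indicatorElt (R : Type u) [CommRing R] [∀ i, Algebra R (K i)] (s : Set ι) :
    integralClosure R (∀ i, K i) := by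
  classical
  refine ⟨fun i ↦ if i ∈ s then 1 else 0, ⟨X ^ 2 - X, monic_X_pow_sub (degree_X_le.trans_lt (by norm_num)), ?_⟩⟩
  ext i
  by_cases h : i ∈ s <;> simp [eval₂_sub, eval₂_X_pow, sq, h]

omit [∀ i, IsAlgClosed (K i)] in
theorem indicatorElt_apply (s : Set ι) (i : ι) [Decidable (i ∈ s)] :
    (indicatorElt (K := K) R s).1 i = if i ∈ s then 1 else 0 := by
  simp only [indicatorElt]
  congr 1

omit [∀ i, IsAlgClosed (K i)] in
theorem comap_surjective
    (h : ∀ p : Ideal R, p.IsPrime → ∃ i, RingHom.ker (algebraMap R (K i)) = p) :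
    Function.Surjective (PrimeSpectrum.comap (algebraMap R (integralClosure R (∀ i, K i)))) := by
  intro p
  obtain ⟨i, hi⟩ := h p.asIdeal p.isPrime
  obtain ⟨Q, -, hQ, hQp⟩ := Ideal.exists_ideal_over_prime_of_isIntegral
    (S := integralClosure R (∀ i, K i)) p.asIdeal ⊥ fun x hx ↦ by
      rw [← hi]
      exact congrFun (congrArg Subtype.val hx) i
  exact ⟨⟨Q, hQ⟩, PrimeSpectrum.ext hQp⟩

theorem isDomain_localization (q : Ideal (integralClosure R (∀ i, K i))) [q.IsPrime] :
    IsDomain (Localization.AtPrime q) := by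
  classical
  let F := integralClosure R (∀ i, K i)
  let O := Localization.AtPrime q
  suffices NoZeroDivisors O from NoZeroDivisors.to_isDomain O
  have key : ∀ a b : F, a * b = 0 → algebraMap F O a = 0 ∨ algebraMap F O b = 0 := by
    intro a b hab
    let e : F := indicatorElt R {i | (a : ∀ i, K i) i ≠ 0}
    have he : e * a = a ∧ e * b = 0 := by
      constructor <;> refine Subtype.ext (funext fun i ↦ ?_)
      · by_cases h : (a : ∀ i, K i) i = 0 <;>
          simp [e, indicatorElt_apply, h]
      · have := congrFun (congrArg Subtype.val hab) i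
        by_cases h : (a : ∀ i, K i) i = 0
        · simp [e, indicatorElt_apply, h]
        · have hb := (mul_eq_zero.mp this).resolve_left h
          simp [hb]
    by_cases hq : e ∈ q
    · refine Or.inl ((IsLocalization.map_eq_zero_iff q.primeCompl O a).mpr ⟨⟨1 - e, fun h ↦ ?_⟩, ?_⟩)
      · exact (inferInstance : q.IsPrime).ne_top ((Ideal.eq_top_iff_one q).mpr (by
          simpa using add_mem h hq))
      · rw [sub_mul, one_mul, he.1, sub_self]
    · exact Or.inr ((IsLocalization.map_eq_zero_iff q.primeCompl O b).mpr ⟨⟨e, hq⟩, he.2⟩)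
  constructor
  intro x y hxy
  obtain ⟨a, s, rfl⟩ := IsLocalization.exists_mk'_eq q.primeCompl x
  obtain ⟨b, t, rfl⟩ := IsLocalization.exists_mk'_eq q.primeCompl y
  rw [← IsLocalization.mk'_mul, IsLocalization.mk'_eq_zero_iff] at hxy
  obtain ⟨u, hu⟩ := hxy
  rw [← mul_assoc] at hu
  rcases key _ _ hu with h | h
  · left
    rw [map_mul] at h
    have := ((IsLocalization.map_units O u).mul_right_eq_zero).mp h
    exact IsLocalization.mk'_eq_zero_iff _ _ |>.mpr
      ((IsLocalization.map_eq_zero_iff q.primeCompl O a).mp this)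
  · exact Or.inr (IsLocalization.mk'_eq_zero_iff _ _ |>.mpr
      ((IsLocalization.map_eq_zero_iff q.primeCompl O b).mp h))

theorem hasRoots_integralClosure : HasRoots (integralClosure R (∀ i, K i)) := by
  intro p hp hdeg
  let π : ∀ i, integralClosure R (∀ i, K i) →+* K i := fun i ↦
    (Pi.evalRingHom K i).comp (integralClosure R (∀ i, K i)).val.toRingHom
  have hroot : ∀ i, ∃ x : K i, (p.map (π i)).IsRoot x := fun i ↦
    IsAlgClosed.exists_root _ fun h ↦ hdeg (by
      have := natDegree_eq_zero_iff_degree_le_zero.mpr h.le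
      rwa [hp.natDegree_map] at this)
  choose x hx using hroot
  have h0 : aeval x p = 0 := funext fun i ↦ by
    have := hx i
    rw [IsRoot, eval_map] at this
    rw [Pi.zero_apply, ← this, aeval_def]
    exact hom_eval₂ _ _ (Pi.evalRingHom K i) _
  have hint : IsIntegral (integralClosure R (∀ i, K i)) x := ⟨p, hp, h0⟩
  let x' : integralClosure R (∀ i, K i) := ⟨x, isIntegral_trans _ hint⟩
  refine ⟨x', Subtype.ext (Eq.trans ?_ h0)⟩
  exact (aeval_algebraMap_apply (∀ i, K i) x' p).symm.trans rfl |>.trans rfl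

theorem hasRoots_localization {F : Type u} [CommRing F] (h : HasRoots F) (S : Submonoid F)
    (O : Type u) [CommRing O] [Algebra F O] [IsLocalization S O] : HasRoots O := by
  classical
  intro p hp hdeg
  rcases subsingleton_or_nontrivial O with hO | hO
  · exact ⟨0, Subsingleton.elim _ _⟩
  obtain ⟨d, hd⟩ := IsLocalization.exist_integer_multiples S (Finset.range p.natDegree)
    fun i ↦ p.coeff i
  have hlift : p.scaleRoots (algebraMap F O d) ∈ Polynomial.lifts (algebraMap F O) := by
    rw [lifts_iff_coeff_lifts]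
    intro i
    rw [coeff_scaleRoots]
    rcases lt_trichotomy i p.natDegree with hi | hi | hi
    · obtain ⟨c, hc⟩ := hd i (Finset.mem_range.mpr hi)
      refine ⟨c * (d : F) ^ (p.natDegree - i - 1), ?_⟩
      rw [map_mul, map_pow, hc, Algebra.smul_def, mul_comm (algebraMap F O d) (p.coeff i), mul_assoc,
        ← pow_succ', Nat.sub_one_add_one (by omega)]
    · subst hi
      exact ⟨1, by simp [hp.coeff_natDegree]⟩
    · exact ⟨0, by simp [coeff_eq_zero_of_natDegree_lt hi]⟩
  obtain ⟨q, hq, hqd, hqm⟩ := lifts_and_natDegree_eq_and_monic hlift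
    ((monic_scaleRoots_iff _).mpr hp)
  obtain ⟨r, hr⟩ := h q hqm (by rwa [hqd, natDegree_scaleRoots])
  refine ⟨IsLocalization.mk' O r d, ?_⟩
  have h1 : (p.scaleRoots (algebraMap F O d)).eval (algebraMap F O r) = 0 := by
    rw [← hq, eval_map, eval₂_hom, show q.eval r = 0 from hr, map_zero]
  rw [← IsLocalization.mk'_spec' O r d, scaleRoots_eval_mul] at h1
  exact (((IsLocalization.map_units O d).pow _).mul_right_eq_zero).mp h1

theorem localization_props (q : Ideal (integralClosure R (∀ i, K i))) [q.IsPrime] :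
    ∃ _ : IsDomain (Localization.AtPrime q), IsIntegrallyClosed (Localization.AtPrime q) ∧
      IsAlgClosed (FractionRing (Localization.AtPrime q)) :=
  haveI := isDomain_localization q
  have h := hasRoots_localization (hasRoots_integralClosure (R := R) (K := K)) q.primeCompl
    (Localization.AtPrime q)
  ⟨inferInstance, isIntegrallyClosed_of_hasRoots h, isAlgClosed_fractionRing_of_hasRoots h⟩

omit [∀ i, IsAlgClosed (K i)] in
/-- The integral closure in the product of fields commutes with localization. -/
theorem isLocalization_restrict (f : R) {R' : Type u} [CommRing R'] [Algebra R R']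
    [IsLocalization.Away f R'] {ι' : Type v} (j : ι' → ι) (hj : Function.Injective j)
    (hf : ∀ i, i ∈ Set.range j ↔ algebraMap R (K i) f ≠ 0) [∀ i, Algebra R' (K (j i))]
    [∀ i, IsScalarTower R R' (K (j i))]
    [Algebra (integralClosure R (∀ i, K i)) (integralClosure R' (∀ i, K (j i)))]
    (hr : ∀ (x : integralClosure R (∀ i, K i)) (i : ι'),
      (algebraMap _ (integralClosure R' (∀ i, K (j i))) x).1 i = x.1 (j i)) :
    IsLocalization.Away (algebraMap R (integralClosure R (∀ i, K i)) f)
      (integralClosure R' (∀ i, K (j i))) := by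
  classical
  let F := integralClosure R (∀ i, K i)
  let F' := integralClosure R' (∀ i, K (j i))
  let fF : F := algebraMap R F f
  have hfF : algebraMap F F' fF = algebraMap R' F' (algebraMap R R' f) :=
    Subtype.ext (funext fun i ↦ by
      rw [hr]
      exact IsScalarTower.algebraMap_apply R R' (K (j i)) f)
  refine ⟨?_, ?_, ?_⟩
  · rintro ⟨_, n, rfl⟩
    rw [map_pow, hfF]
    exact ((IsLocalization.Away.algebraMap_isUnit f).map _).pow n
  · intro x
    have hx : IsIntegral R' (x : ∀ i, K (j i)) := x.2
    obtain ⟨⟨_, n, rfl⟩, hm⟩ :=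
      IsIntegral.exists_multiple_integral_of_isLocalization (Submonoid.powers f) _ hx
    obtain ⟨p, hp, hpx⟩ := hm
    let y : ∀ i, K i := fun i ↦
      if h : i ∈ Set.range j then h.choose_spec ▸ ((f ^ n) • (x : ∀ i, K (j i)) h.choose) else 0
    have hy : ∀ i', y (j i') = (f ^ n) • (x : ∀ i, K (j i)) i' := by
      intro i'
      have h : j i' ∈ Set.range j := ⟨i', rfl⟩
      simp only [y, dif_pos h]
      have : h.choose = i' := hj h.choose_spec
      generalize h.choose_spec = e
      revert e
      generalize h.choose = c at this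
      subst this
      intro e
      rfl
    have hy0 : ∀ i ∉ Set.range j, y i = 0 := fun i h ↦ dif_neg h
    have hyint : IsIntegral R y := ⟨p * X, hp.mul monic_X, funext fun i ↦ by
      have e := hom_eval₂ (p * X) (algebraMap R (∀ i, K i)) (Pi.evalRingHom K i) y
      refine e.trans ?_
      rw [eval₂_mul, eval₂_X, Pi.zero_apply]
      by_cases h : i ∈ Set.range j
      · obtain ⟨i', rfl⟩ := h
        refine mul_eq_zero_of_left ?_ _
        have e' := hom_eval₂ p (algebraMap R (∀ i, K (j i)))
          (Pi.evalRingHom (fun i ↦ K (j i)) i') ((f ^ n) • (x : ∀ i, K (j i)))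
        rw [show eval₂ (algebraMap R (∀ i, K (j i))) ((f ^ n) • (x : ∀ i, K (j i))) p = 0 from hpx,
          map_zero] at e'
        refine Eq.trans ?_ e'.symm
        congr 1
        exact hy i'
      · exact mul_eq_zero_of_right _ (hy0 i h)⟩
    refine ⟨⟨⟨y, hyint⟩, ⟨fF ^ n, n, rfl⟩⟩, ?_⟩
    refine Subtype.ext (funext fun i ↦ ?_)
    rw [hr]
    show x.1 i * (algebraMap F F' (fF ^ n)).1 i = y (j i)
    rw [hy, hr, Algebra.smul_def, map_pow, mul_comm]
    rfl
  · intro x z hxz
    refine ⟨⟨fF, 1, pow_one _⟩, Subtype.ext (funext fun i ↦ ?_)⟩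
    show algebraMap R (K i) f * x.1 i = algebraMap R (K i) f * z.1 i
    by_cases h : i ∈ Set.range j
    · obtain ⟨i', rfl⟩ := h
      rw [← hr, ← hr, hxz]
    · rw [not_not.mp ((not_congr (hf i)).mp h), zero_mul, zero_mul]

end FppfLib
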