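import Groth.Agent.FppfLib.AIC
import Groth.Agent.FppfLib.Local
import Mathlib.AlgebraicGeometry.Normalization

/-! An integral surjective cover dominating all fppf covers Zariski locally. -/

set_option autoImplicit false
universe u

open CategoryTheory AlgebraicGeometry TopologicalSpace

namespace FppfLib

variable {S : Scheme.{u}}

/-- The algebraic closure of the residue field of a point. -/
abbrev Kb (x : S) : Type u := AlgebraicClosure (S.residueField x)

/-- Evaluation at a point, with values in the algebraic closure of the residue field. -/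
noncomputable def evalKb (U : S.Opens) (s : U) : Γ(S, U) →+* Kb s.1 :=
  (algebraMap (S.residueField s.1) (Kb s.1)).comp (S.evaluation U s.1 s.2).hom

noncomputable instance algKb (U : S.Opens) (s : U) : Algebra Γ(S, U) (Kb s.1) :=
  (evalKb U s).toAlgebra

theorem evalKb_eq_zero {U : S.Opens} (s : U) (f : Γ(S, U)) :
    evalKb U s f = 0 ↔ s.1 ∉ S.basicOpen f := by
  rw [evalKb, RingHom.comp_apply]
  exact (map_eq_zero_iff _ (algebraMap (S.residueField s.1) (Kb s.1)).injective).trans
    (S.evaluation_eq_zero_iff_notMem_basicOpen s.1 s.2 f)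

/-- The functions on the points with values in the algebraic closures. -/
noncomputable abbrev Pts (U : S.Opens) : Type u := ∀ s : U, Kb s.1

/-- The absolute integral closure of the sections over an open. -/
noncomputable abbrev AIC (U : S.Opens) : Subalgebra Γ(S, U) (Pts U) := integralClosure Γ(S, U) (Pts U)

theorem evalKb_res {V U : S.Opens} (h : V ≤ U) (s : V) (f : Γ(S, U)) :
    evalKb V s (S.presheaf.map (homOfLE h).op f) = evalKb U ⟨s.1, h s.2⟩ f := by
  simp only [evalKb, RingHom.comp_apply, Scheme.evaluation]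
  congr 1
  simp only [CommRingCat.hom_comp, RingHom.comp_apply]
  congr 1
  exact S.presheaf.germ_res_apply (homOfLE h) s.1 s.2 f

/-- Restriction of functions on points. -/
noncomputable def restrictPts {V U : S.Opens} (h : V ≤ U) : Pts U →+* Pts V :=
  RingHom.pi fun s : V ↦ Pi.evalRingHom (fun t : U ↦ Kb t.1) ⟨s.1, h s.2⟩

theorem isIntegral_restrictPts {V U : S.Opens} (h : V ≤ U) {x : Pts U}
    (hx : IsIntegral Γ(S, U) x) : IsIntegral Γ(S, V) (restrictPts h x) := by
  obtain ⟨p, hp, hpx⟩ := hx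
  refine ⟨p.map (S.presheaf.map (homOfLE h).op).hom, hp.map _, ?_⟩
  have hc : (algebraMap Γ(S, V) (Pts V)).comp (S.presheaf.map (homOfLE h).op).hom =
      (restrictPts h).comp (algebraMap Γ(S, U) (Pts U)) :=
    RingHom.ext fun f ↦ funext fun s ↦ evalKb_res h s f
  rw [Polynomial.eval₂_map, hc, ← Polynomial.hom_eval₂, hpx, map_zero]

/-- Restriction of absolute integral closures. -/
noncomputable def restrictAIC {V U : S.Opens} (h : V ≤ U) : AIC U →+* AIC V :=
  (restrictPts h).restrict _ _ fun _ hx ↦ isIntegral_restrictPts h hx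

variable (S)

/-- The presheaf of absolute integral closures. -/
noncomputable def aicDiagram : S.Opensᵒᵖ ⥤ CommRingCat.{u} where
  obj U := .of (AIC U.unop)
  map {V U} i := CommRingCat.ofHom (restrictAIC i.unop.le)
  map_id U := by ext; rfl
  map_comp i j := by ext; rfl

/-- The structure map to the absolute integral closures. -/
noncomputable def aicMap : S.presheaf ⟶ aicDiagram S where
  app U := CommRingCat.ofHom (algebraMap Γ(S, U.unop) (AIC U.unop))
  naturality {U V} i := by
    ext f
    exact Subtype.ext (funext fun s ↦ evalKb_res i.unop.le s f)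

open Scheme.AffineZariskiSite in
theorem coequifibered_aicMap :
    ((toOpensFunctor S).op.whiskerLeft (aicMap S)).Coequifibered := by
  refine coequifibered_iff_forall_isLocalizationAway.mpr fun U r ↦ ?_
  let _ : Algebra Γ(S, U.1) Γ(S, S.basicOpen r) :=
    (S.presheaf.map (homOfLE (S.basicOpen_le r)).op).hom.toAlgebra
  have : IsLocalization.Away r Γ(S, S.basicOpen r) := U.2.isLocalization_basicOpen r
  let j : ↥(S.basicOpen r) → ↥U.1 := fun s ↦ ⟨s.1, S.basicOpen_le r s.2⟩
  let inst1 : ∀ i, Algebra Γ(S, S.basicOpen r) (Kb (j i).1) := fun i ↦ algKb (S.basicOpen r) i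
  have inst2 : ∀ i, @IsScalarTower Γ(S, U.1) Γ(S, S.basicOpen r) (Kb (j i).1) _ (inst1 i).toSMul _ :=
    fun i ↦ IsScalarTower.of_algebraMap_eq fun f ↦ (evalKb_res (S.basicOpen_le r) i f).symm
  let inst3 : Algebra (AIC U.1) (AIC (S.basicOpen r)) :=
    (restrictAIC (S.basicOpen_le r)).toAlgebra
  exact @isLocalization_restrict Γ(S, U.1) _ ↥U.1 (fun s ↦ Kb s.1) _ _ r
    Γ(S, S.basicOpen r) _ _ _ ↥(S.basicOpen r) j
    (fun a b h ↦ Subtype.ext (congrArg (fun s : ↥U.1 ↦ s.1) h))
    (fun i ↦ by
      rw [Ne, RingHom.algebraMap_toAlgebra, evalKb_eq_zero, not_not]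
      exact ⟨fun ⟨s, hs⟩ ↦ hs ▸ s.2, fun h ↦ ⟨⟨i.1, h⟩, rfl⟩⟩)
    inst1 inst2 inst3 (fun x i ↦ rfl)

/-- The gluing datum of the absolute integral closure. -/
noncomputable def aicGlueData :=
  Scheme.AffineZariskiSite.relativeGluingData (coequifibered_aicMap S)

instance : ((aicGlueData S).functor ⋙ Scheme.forget).IsLocallyDirected :=
  Scheme.Cover.RelativeGluingData.instIsLocallyDirectedI₀CompFunctorForgetOfIsThin ..

/-- The absolute integral closure of a scheme. -/
noncomputable def aicScheme : Scheme.{u} := (aicGlueData S).glued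

/-- The projection from the absolute integral closure. -/
noncomputable def aicProj : aicScheme S ⟶ S := (aicGlueData S).toBase

/-- The chart of the absolute integral closure over an affine open. -/
noncomputable def aicChart (U : S.affineOpens) : Spec (.of (AIC U.1)) ⟶ aicScheme S :=
  (aicGlueData S).cover.f U

instance (U : S.affineOpens) : IsOpenImmersion (aicChart S U) :=
  (aicGlueData S).cover.map_prop U

theorem aicChart_proj (U : S.affineOpens) : aicChart S U ≫ aicProj S =
    Spec.map (CommRingCat.ofHom (algebraMap Γ(S, U.1) (AIC U.1))) ≫ U.2.fromSpec :=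
  Limits.colimit.ι_desc _ _

theorem aicProj_preimage (U : S.affineOpens) :
    aicProj S ⁻¹ᵁ U.1 = (aicChart S U).opensRange := by
  have := (aicGlueData S).toBase_preimage_eq_opensRange_ι U
  simpa using! this

instance : IsIntegralHom (aicProj S) := by
  rw [IsZariskiLocalAtTarget.iff_of_iSup_eq_top (P := @IsIntegralHom) _
    (iSup_affineOpens_eq_top _)]
  intro U
  let e := IsOpenImmersion.isoOfRangeEq (aicProj S ⁻¹ᵁ U).ι (aicChart S U)
      (by simpa using congr($(aicProj_preimage S U).1))
  rw [← MorphismProperty.cancel_left_of_respectsIso @IsIntegralHom e.inv,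
    ← MorphismProperty.cancel_right_of_respectsIso @IsIntegralHom _ U.2.isoSpec.hom]
  have : (CommRingCat.ofHom (algebraMap Γ(S, U.1) (AIC U.1))).hom.IsIntegral :=
    algebraMap_isIntegral_iff.mpr inferInstance
  convert! IsIntegralHom.SpecMap_iff.mpr this
  rw [← cancel_mono U.2.fromSpec]
  simp [IsAffineOpen.isoSpec_hom, e, aicChart_proj]

instance : Surjective (aicProj S) := by
  refine ⟨fun s ↦ ?_⟩
  obtain ⟨_, ⟨U, hU, rfl⟩, hsU, -⟩ :=
    S.isBasis_affineOpens.exists_subset_of_mem_open (Set.mem_univ s) isOpen_univ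
  obtain ⟨p, rfl⟩ : s ∈ Set.range hU.fromSpec := by rwa [hU.range_fromSpec]
  obtain ⟨Q, hQ⟩ := comap_surjective (R := Γ(S, U)) (K := fun s : (⟨U, hU⟩ : S.affineOpens).1 ↦ Kb s.1)
    (fun q hq ↦ by
      have hmem : hU.fromSpec ⟨q, hq⟩ ∈ (U : Set S) := hU.range_fromSpec ▸ ⟨_, rfl⟩
      refine ⟨⟨_, hmem⟩, Ideal.ext fun f ↦ ?_⟩
      rw [RingHom.mem_ker, RingHom.algebraMap_toAlgebra, evalKb_eq_zero]
      refine (not_congr ?_).trans not_not
      show (⟨q, hq⟩ : PrimeSpectrum Γ(S, U)) ∈ hU.fromSpec ⁻¹ᵁ S.basicOpen f ↔ f ∉ q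
      rw [hU.fromSpec_preimage_basicOpen]
      rfl) p
  refine ⟨aicChart S ⟨U, hU⟩ Q, ?_⟩
  rw [← Scheme.Hom.comp_apply, aicChart_proj, Scheme.Hom.comp_apply, ← hQ]
  rfl

/-- Flat surjective morphisms of finite presentation have sections Zariski locally on the absolute
integral closure. -/
theorem exists_local_lift {S' : Scheme.{u}} (g : S' ⟶ S) [Flat g] [LocallyOfFinitePresentation g]
    [Surjective g] (t : aicScheme S) :
    ∃ (V : (aicScheme S).Opens) (r : ↑V ⟶ S'), t ∈ V ∧ r ≫ g = V.ι ≫ aicProj S := by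
  obtain ⟨_, ⟨U, hU, rfl⟩, htU, -⟩ :=
    S.isBasis_affineOpens.exists_subset_of_mem_open (Set.mem_univ (aicProj S t)) isOpen_univ
  let U' : S.affineOpens := ⟨U, hU⟩
  let χ := aicChart S U'
  obtain ⟨τ, rfl⟩ : t ∈ χ.opensRange := (aicProj_preimage S U') ▸ htU
  obtain ⟨V, r, hτV, hr⟩ := exists_local_section
    (Limits.pullback.snd g (χ ≫ aicProj S))
    (fun q _ ↦ localization_props (R := Γ(S, U)) (K := fun s : U'.1 ↦ Kb s.1) q) τ
  refine ⟨χ ''ᵁ V, (χ.isoImage V).inv ≫ r ≫ Limits.pullback.fst _ _, ⟨τ, hτV, rfl⟩, ?_⟩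
  simp only [Category.assoc, Limits.pullback.condition]
  rw [← Category.assoc r, hr, Scheme.Hom.isoImage_inv_ι_assoc]

end FppfLib
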