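import Groth.Agent.SpecLib.ValDense

/-! Sections of flat algebras over absolutely integrally closed local domains. -/

set_option autoImplicit false
universe u

open TensorProduct

namespace FppfLib

theorem quasiFiniteAt_of_finite_quotient {R D : Type u} [CommRing R] [CommRing D] [Algebra R D]
    [Algebra.FiniteType R D] (q : Ideal R) [q.IsMaximal] (z : Ideal D) [z.IsPrime] [z.LiesOver q]
    [Module.Finite R (D ⧸ q.map (algebraMap R D))] : Algebra.QuasiFiniteAt R z := by
  have hsurj : Function.Surjective (algebraMap R q.ResidueField) := by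
    exact Ideal.algebraMap_residueField_surjective q
  let incl : D →ₐ[R] q.Fiber D := Algebra.TensorProduct.includeRight
  have hincl : Function.Surjective incl := by
    intro x
    induction x using TensorProduct.induction_on with
    | zero => exact ⟨0, map_zero _⟩
    | add x y hx hy =>
      obtain ⟨a, rfl⟩ := hx; obtain ⟨b, rfl⟩ := hy; exact ⟨a + b, map_add _ _ _⟩
    | tmul c d =>
      obtain ⟨r, rfl⟩ := hsurj c
      exact ⟨r • d, by simp [incl, Algebra.algebraMap_eq_smul_one, TensorProduct.smul_tmul]⟩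
  have hker : ∀ x ∈ q.map (algebraMap R D), incl x = 0 := by
    refine fun x hx ↦ (Ideal.map_le_iff_le_comap (K := RingHom.ker incl.toRingHom)).mpr ?_ hx
    intro r hr
    show incl (algebraMap R D r) = 0
    rw [AlgHom.commutes, IsScalarTower.algebraMap_apply R q.ResidueField (q.Fiber D),
      Ideal.algebraMap_residueField_eq_zero.mpr hr, map_zero]
  have : Module.Finite R (q.Fiber D) := Module.Finite.of_surjective
    (Ideal.Quotient.liftₐ (q.map (algebraMap R D)) incl hker).toLinearMap fun x ↦ by
      obtain ⟨d, rfl⟩ := hincl x; exact ⟨Ideal.Quotient.mk _ d, rfl⟩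
  have : Module.Finite q.ResidueField (q.Fiber D) := Module.Finite.of_restrictScalars_finite R _ _
  let e := PrimeSpectrum.preimageHomeomorphFiber R D ⟨q, inferInstance⟩
  let z' : PrimeSpectrum.comap (algebraMap R D) ⁻¹' {(⟨q, inferInstance⟩ : PrimeSpectrum R)} :=
    ⟨⟨z, inferInstance⟩, PrimeSpectrum.ext (z.over_def q).symm⟩
  exact .of_quasiFiniteAt_residueField q z (e z').asIdeal
    congr($(e.symm_apply_apply z').1.asIdeal)

variable {O C : Type u} [CommRing O] [IsDomain O] [IsLocalRing O] [IsIntegrallyClosed O]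
  [IsAlgClosed (FractionRing O)] [CommRing C] [Algebra O C] [Module.Flat O C]
  [Algebra.FiniteType O C]

/-- A flat algebra of finite type with nonempty closed fibre over an absolutely integrally closed
local domain has a section. -/
theorem exists_algHom (h : (IsLocalRing.maximalIdeal O).map (algebraMap O C) ≠ ⊤) :
    Nonempty (C →ₐ[O] O) := by
  classical
  let K := FractionRing O
  let k := IsLocalRing.ResidueField O
  let J : Ideal C := (IsLocalRing.maximalIdeal O).map (algebraMap O C)
  let D0 := C ⧸ J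
  let _ : Algebra k D0 := (Ideal.Quotient.lift (IsLocalRing.maximalIdeal O) (algebraMap O D0)
    fun x hx ↦ Ideal.Quotient.eq_zero_iff_mem.mpr (Ideal.mem_map_of_mem _ hx)).toAlgebra
  have : IsScalarTower O k D0 := IsScalarTower.of_algebraMap_eq fun x ↦ rfl
  have : Nontrivial D0 := Ideal.Quotient.nontrivial_iff.mpr h
  have : Algebra.FiniteType O D0 := .trans (S := C) inferInstance inferInstance
  have : Algebra.FiniteType k D0 := .of_restrictScalars_finiteType O k D0
  obtain ⟨n, g, hg, hgfin⟩ := exists_finite_inj_algHom_of_fg k D0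
  choose T hT using fun i ↦ Ideal.Quotient.mk_surjective (g (MvPolynomial.X i))
  let R := MvPolynomial (Fin n) O
  let φ : R →ₐ[O] C := MvPolynomial.aeval T
  have hφg : (Ideal.Quotient.mk J).comp φ.toRingHom =
      g.toRingHom.comp (MvPolynomial.map (IsLocalRing.residue O)) := by
    refine MvPolynomial.ringHom_ext (fun a ↦ ?_) fun i ↦ ?_
    · simp only [RingHom.comp_apply, AlgHom.toRingHom_eq_coe, RingHom.coe_coe, MvPolynomial.map_C]
      rw [← MvPolynomial.algebraMap_eq (R := O), AlgHom.commutes,
        ← MvPolynomial.algebraMap_eq (R := k), AlgHom.commutes]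
      exact IsScalarTower.algebraMap_apply O k D0 a
    · simp only [RingHom.comp_apply, AlgHom.toRingHom_eq_coe, RingHom.coe_coe, MvPolynomial.map_X]
      exact (congrArg _ (MvPolynomial.aeval_X T i)).trans (hT i)
  -- a valuation ring dominating `O`
  obtain ⟨W, hW, hloc⟩ := IsLocalRing.exists_factor_valuationRing (R := O) (K := K) (algebraMap O K)
  let _ : Algebra O W := (RingHom.codRestrict (algebraMap O K) W.toSubring hW).toAlgebra
  have : IsLocalHom (algebraMap O W) := hloc
  let k' := IsLocalRing.ResidueField W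
  let E := k' ⊗[k] D0
  let g' : k' ⊗[k] MvPolynomial (Fin n) k →ₐ[k'] E :=
    Algebra.TensorProduct.map (AlgHom.id k' k') g
  have hg' : Function.Injective g' :=
    Module.Flat.lTensor_preserves_injective_linearMap (M := k') g.toLinearMap hg
  have hg'fin : g'.toRingHom.Finite := by
    let _ := g.toRingHom.toAlgebra
    have : IsScalarTower k (MvPolynomial (Fin n) k) D0 :=
      IsScalarTower.of_algebraMap_eq fun x ↦ (g.commutes x).symm
    have : Module.Finite (MvPolynomial (Fin n) k) D0 := hgfin
    obtain ⟨s, hs⟩ := Module.Finite.fg_top (R := MvPolynomial (Fin n) k) (M := D0)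
    let _ := g'.toRingHom.toAlgebra
    refine ⟨⟨s.image fun d ↦ (1 : k') ⊗ₜ[k] d, ?_⟩⟩
    rw [eq_top_iff]
    rintro x -
    induction x using TensorProduct.induction_on with
    | zero => exact zero_mem _
    | add x y hx hy => exact add_mem hx hy
    | tmul c d =>
      have hd : d ∈ Submodule.span (MvPolynomial (Fin n) k) (s : Set D0) := hs ▸ trivial
      obtain ⟨a, -, rfl⟩ := Submodule.mem_span_finset.mp hd
      rw [TensorProduct.tmul_sum]
      refine sum_mem fun i hi ↦ ?_
      have : c ⊗ₜ[k] (a i • i) = (c ⊗ₜ[k] a i : k' ⊗[k] MvPolynomial (Fin n) k) •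
          ((1 : k') ⊗ₜ[k] i : E) := by
        show c ⊗ₜ[k] (g (a i) * i) = g' (c ⊗ₜ[k] a i) * ((1 : k') ⊗ₜ[k] i)
        rw [show g' (c ⊗ₜ[k] a i) = c ⊗ₜ[k] g (a i) from Algebra.TensorProduct.map_tmul _ _ _ _,
          Algebra.TensorProduct.tmul_mul_tmul, mul_one]
      rw [this]
      exact Submodule.smul_mem _ _ (Submodule.subset_span (Finset.mem_image_of_mem _ hi))
  let e := MvPolynomial.algebraTensorAlgEquiv k k' (σ := Fin n)
  let hh : MvPolynomial (Fin n) k' →ₐ[k'] E := g'.comp e.symm.toAlgHom
  have hhX : ∀ i, hh (MvPolynomial.X i) = (1 : k') ⊗ₜ[k] g (MvPolynomial.X i) := fun i ↦ by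
    simp [hh, e, g']
    exact Algebra.TensorProduct.map_tmul _ _ _ _
  have hhi : Function.Injective hh := hg'.comp e.symm.injective
  have hhfin : hh.toRingHom.IsIntegral :=
    RingHom.IsIntegral.trans e.symm.toRingEquiv.toRingHom g'.toRingHom
      (RingHom.isIntegral_of_surjective _ e.symm.surjective) (hg'fin.to_isIntegral)
  obtain ⟨η, hη, hηbot⟩ : ∃ η : Ideal E, η.IsPrime ∧ η.comap hh.toRingHom = ⊥ := by
    let _ := hh.toRingHom.toAlgebra
    have : Algebra.IsIntegral (MvPolynomial (Fin n) k') E := ⟨hhfin⟩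
    obtain ⟨η, -, hη, hηc⟩ := Ideal.exists_ideal_over_prime_of_isIntegral
      (R := MvPolynomial (Fin n) k') (⊥ : Ideal _) (⊥ : Ideal E) (by
        show Ideal.comap hh.toRingHom ⊥ ≤ ⊥
        rw [← RingHom.ker_eq_comap_bot, (RingHom.injective_iff_ker_eq_bot hh.toRingHom).mp hhi])
    exact ⟨η, hη, hηc⟩
  let η1 : Ideal D0 := η.comap (Algebra.TensorProduct.includeRight : D0 →ₐ[k] E)
  have hη1bot : η1.comap g.toRingHom = ⊥ := by
    refine (Submodule.eq_bot_iff _).mpr fun f hf ↦ ?_
    have : hh (MvPolynomial.map (algebraMap k k') f) =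
        (1 : k') ⊗ₜ[k] g f := by
      have : hh.toRingHom.comp (MvPolynomial.map (algebraMap k k')) =
          ((Algebra.TensorProduct.includeRight : D0 →ₐ[k] E).comp g).toRingHom := by
        refine MvPolynomial.ringHom_ext (fun a ↦ ?_) fun i ↦ by simp [hhX]
        simp only [RingHom.comp_apply, AlgHom.toRingHom_eq_coe, RingHom.coe_coe, MvPolynomial.map_C,
          AlgHom.comp_apply]
        rw [← MvPolynomial.algebraMap_eq (R := k'), AlgHom.commutes,
          ← MvPolynomial.algebraMap_eq (R := k), AlgHom.commutes, AlgHom.commutes]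
        exact (IsScalarTower.algebraMap_apply k k' E a).symm
      exact RingHom.congr_fun this f
    have h2 : MvPolynomial.map (algebraMap k k') f ∈ η.comap hh.toRingHom := by
      rw [Ideal.mem_comap]; show hh _ ∈ η; rw [this]; exact hf
    rw [hηbot, Ideal.mem_bot] at h2
    exact MvPolynomial.map_injective _ (algebraMap k k').injective (h2.trans (map_zero _).symm)
  -- the closed point
  let x0 : Fin n → k := 0
  let p0 : Ideal (MvPolynomial (Fin n) k) := RingHom.ker (MvPolynomial.eval x0)
  have hp0 : p0.IsMaximal := RingHom.ker_isMaximal_of_surjective _ fun a ↦ ⟨MvPolynomial.C a, by simp⟩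
  obtain ⟨z0, hz0η, hz0, hz0c⟩ : ∃ z0 ≥ η1, z0.IsMaximal ∧ z0.comap g.toRingHom = p0 := by
    let _ := g.toRingHom.toAlgebra
    have : Algebra.IsIntegral (MvPolynomial (Fin n) k) D0 :=
      ⟨RingHom.Finite.to_isIntegral (hgfin : g.toRingHom.Finite)⟩
    obtain ⟨z0, hle, hz0, hz0c⟩ := Ideal.exists_ideal_over_prime_of_isIntegral
      (R := MvPolynomial (Fin n) k) p0 η1 (by
        show η1.comap g.toRingHom ≤ p0
        rw [hη1bot]; exact bot_le)
    exact ⟨z0, hle, Ideal.isMaximal_of_isIntegral_of_isMaximal_comap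
      (R := MvPolynomial (Fin n) k) z0 (hz0c.symm ▸ hp0), hz0c⟩
  -- the generalization over the valuation ring
  let CV := W ⊗[O] C
  let Ψ : CV →+* E := (Algebra.TensorProduct.lift
    ((IsScalarTower.toAlgHom O k' E).comp (IsScalarTower.toAlgHom O W k'))
    (((Algebra.TensorProduct.includeRight : D0 →ₐ[k] E).restrictScalars O).comp
      (Ideal.Quotient.mkₐ O J)) fun _ _ ↦ Commute.all _ _ : CV →ₐ[O] E).toRingHom
  have hΨW : ∀ v : W, Ψ (algebraMap W CV v) = algebraMap k' E (IsLocalRing.residue W v) := fun v ↦ by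
    show Algebra.TensorProduct.lift _ _ _ (v ⊗ₜ[O] (1 : C)) = _
    rw [Algebra.TensorProduct.lift_tmul, map_one, mul_one]
    rfl
  have hΨC : ∀ c : C, Ψ ((1 : W) ⊗ₜ[O] c) = (1 : k') ⊗ₜ[k] (Ideal.Quotient.mk J c : D0) := fun c ↦ by
    show Algebra.TensorProduct.lift _ _ _ ((1 : W) ⊗ₜ[O] c) = _
    rw [Algebra.TensorProduct.lift_tmul, map_one, one_mul]
    rfl
  let ηV : Ideal CV := η.comap Ψ
  have : ηV.IsPrime := Ideal.comap_isPrime _ _
  obtain ⟨P0, hP0η, hP0, hP0bot⟩ := Ideal.exists_ideal_le_liesOver_of_le (p := (⊥ : Ideal W))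
    (q := ηV.under W) ηV bot_le
  let D' := CV ⧸ P0
  have hD'i : Function.Injective (algebraMap W D') := by
    rw [injective_iff_map_eq_zero]
    intro v hv
    exact (Submodule.mem_bot W).mp ((Ideal.mem_of_liesOver P0 (⊥ : Ideal W) v).mpr
      (Ideal.Quotient.eq_zero_iff_mem.mp hv))
  have : FaithfulSMul W D' := (faithfulSMul_iff_algebraMap_injective _ _).mpr hD'i
  let φV : MvPolynomial (Fin n) W →ₐ[W] D' :=
    MvPolynomial.aeval fun i ↦ Ideal.Quotient.mk P0 ((1 : W) ⊗ₜ[O] T i)
  have hφV : Function.Injective φV := by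
    refine SpecLib.injective_of_mod_injective φV fun f hf ↦ ?_
    let φC : MvPolynomial (Fin n) W →ₐ[W] CV := MvPolynomial.aeval fun i ↦ (1 : W) ⊗ₜ[O] T i
    have hcomp : φV = (Ideal.Quotient.mkₐ W P0).comp φC :=
      MvPolynomial.algHom_ext fun i ↦ by simp [φV, φC]
    have h1 : φC f ∈ ηV := by
      have h2 : (IsLocalRing.maximalIdeal W).map (algebraMap W CV) ≤ ηV := by
        refine Ideal.map_le_iff_le_comap.mpr fun v hv ↦ ?_
        show Ψ _ ∈ η
        rw [hΨW, (IsLocalRing.residue_eq_zero_iff v).mpr hv, map_zero]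
        exact zero_mem _
      rw [IsScalarTower.algebraMap_eq W CV D', ← Ideal.map_map, hcomp,
        AlgHom.comp_apply, Ideal.Quotient.mkₐ_eq_mk, Ideal.Quotient.algebraMap_eq] at hf
      have : φC f ∈ ((IsLocalRing.maximalIdeal W).map (algebraMap W CV)) ⊔ P0 := by
        rw [← Ideal.mk_ker (I := P0), RingHom.ker_eq_comap_bot,
          ← Ideal.comap_map_of_surjective _ Ideal.Quotient.mk_surjective]
        exact hf
      exact sup_le h2 hP0η this
    have h3 : Ψ.comp φC.toRingHom =
        hh.toRingHom.comp (MvPolynomial.map (IsLocalRing.residue W)) := by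
      refine MvPolynomial.ringHom_ext (fun v ↦ ?_) fun i ↦ by simp [φC, hΨC, hhX, hT]
      simp only [RingHom.comp_apply, AlgHom.toRingHom_eq_coe, RingHom.coe_coe,
        MvPolynomial.map_C, φC]
      rw [← MvPolynomial.algebraMap_eq, AlgHom.commutes, hΨW, ← MvPolynomial.algebraMap_eq,
        AlgHom.commutes]
    have h4 : MvPolynomial.map (IsLocalRing.residue W) f ∈ η.comap hh.toRingHom := by
      have := RingHom.congr_fun h3 f
      simp only [RingHom.comp_apply] at this
      rw [Ideal.mem_comap, ← this]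
      exact h1
    rwa [hηbot, Ideal.mem_bot] at h4
  let P : Ideal C := P0.comap (Algebra.TensorProduct.includeRight : C →ₐ[O] CV)
  have : P.IsPrime := Ideal.comap_isPrime _ _
  let D := C ⧸ P
  let φD : R →ₐ[O] D := (Ideal.Quotient.mkₐ O P).comp φ
  have hφD : Function.Injective φD := by
    rw [injective_iff_map_eq_zero]
    intro f hf
    have h1 : φV (MvPolynomial.map (algebraMap O W) f) =
        Ideal.Quotient.mk P0 ((1 : W) ⊗ₜ[O] φ f) := by
      have : φV.toRingHom.comp (MvPolynomial.map (algebraMap O W)) = (Ideal.Quotient.mk P0).comp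
          ((Algebra.TensorProduct.includeRight : C →ₐ[O] CV).comp φ).toRingHom := by
        refine MvPolynomial.ringHom_ext (fun a ↦ ?_) fun i ↦ by simp [φV, φ]
        simp only [RingHom.comp_apply, AlgHom.toRingHom_eq_coe, RingHom.coe_coe, MvPolynomial.map_C,
          AlgHom.comp_apply]
        rw [← MvPolynomial.algebraMap_eq (R := W), AlgHom.commutes,
          ← MvPolynomial.algebraMap_eq (R := O), AlgHom.commutes, AlgHom.commutes,
          ← IsScalarTower.algebraMap_apply, IsScalarTower.algebraMap_apply O CV D']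
        rfl
      exact RingHom.congr_fun this f
    have hf' : φ f ∈ P := Ideal.Quotient.eq_zero_iff_mem.mp hf
    rw [Ideal.Quotient.eq_zero_iff_mem.mpr (show (1 : W) ⊗ₜ[O] φ f ∈ P0 from hf')] at h1
    exact MvPolynomial.map_injective _
      (fun a b hab ↦ IsFractionRing.injective O K (congrArg Subtype.val hab))
      ((map_eq_zero_iff φV hφV).mp h1 |>.trans (map_zero _).symm)
  let zC : Ideal C := z0.comap (Ideal.Quotient.mk J)
  have hPz : P ≤ zC := fun c hc ↦ hz0η (by
    show (Algebra.TensorProduct.includeRight : D0 →ₐ[k] E) (Ideal.Quotient.mk J c) ∈ η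
    have : Ψ ((1 : W) ⊗ₜ[O] c) ∈ η := hP0η hc
    rwa [hΨC] at this)
  let z : Ideal D := zC.map (Ideal.Quotient.mk P)
  have hzC : z.comap (Ideal.Quotient.mk P) = zC := by
    rw [Ideal.comap_map_of_surjective _ Ideal.Quotient.mk_surjective, ← RingHom.ker_eq_comap_bot,
      Ideal.mk_ker, sup_eq_left.mpr hPz]
  have : zC.IsPrime := Ideal.comap_isPrime _ _
  have : z.IsPrime :=
    Ideal.map_isPrime_of_surjective Ideal.Quotient.mk_surjective (Ideal.mk_ker.le.trans hPz)
  let _ := φD.toRingHom.toAlgebra
  have : IsScalarTower O R D := IsScalarTower.of_algebraMap_eq fun x ↦ (φD.commutes x).symm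
  let q : Ideal R := p0.comap (MvPolynomial.map (IsLocalRing.residue O))
  have : q.IsMaximal := Ideal.comap_isMaximal_of_surjective _
    (MvPolynomial.map_surjective _ IsLocalRing.residue_surjective)
  have : z.LiesOver q := ⟨by
    show q = z.comap φD.toRingHom
    rw [show φD.toRingHom = (Ideal.Quotient.mk P).comp φ.toRingHom from rfl, ← Ideal.comap_comap,
      hzC, Ideal.comap_comap, hφg, ← Ideal.comap_comap, hz0c]⟩
  have : Algebra.FiniteType O D := .trans (S := C) inferInstance inferInstance
  have : Algebra.FiniteType R D := .of_restrictScalars_finiteType O R D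
  have : Module.Finite R (D ⧸ q.map (algebraMap R D)) := by
    let _ := (g.toRingHom.comp (MvPolynomial.map (IsLocalRing.residue O))).toAlgebra (S := D0)
    have : Module.Finite R D0 := by
      have h1 : ((g.toRingHom.comp (MvPolynomial.map (IsLocalRing.residue O)))).Finite :=
        RingHom.Finite.comp hgfin
          (RingHom.Finite.of_surjective _ (MvPolynomial.map_surjective _ IsLocalRing.residue_surjective))
      exact h1
    let π : C →+* D ⧸ q.map (algebraMap R D) :=
      (Ideal.Quotient.mk _).comp (Ideal.Quotient.mk P)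
    have hπ : J ≤ RingHom.ker π := Ideal.map_le_iff_le_comap.mpr fun a ha ↦ by
      show π (algebraMap O C a) = 0
      refine Ideal.Quotient.eq_zero_iff_mem.mpr ?_
      show algebraMap O D a ∈ _
      rw [IsScalarTower.algebraMap_apply O R D]
      refine Ideal.mem_map_of_mem _ ?_
      show MvPolynomial.map (IsLocalRing.residue O) (MvPolynomial.C a) ∈ p0
      rw [MvPolynomial.map_C, (IsLocalRing.residue_eq_zero_iff a).mpr ha, map_zero]
      exact zero_mem _
    let lmap : D0 →ₗ[R] D ⧸ q.map (algebraMap R D) :=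
      { toFun := Ideal.Quotient.lift J π hπ
        map_add' := map_add _
        map_smul' := fun r y ↦ by
          obtain ⟨y, rfl⟩ := Ideal.Quotient.mk_surjective y
          show Ideal.Quotient.lift J π hπ (g (MvPolynomial.map (IsLocalRing.residue O) r) *
            Ideal.Quotient.mk J y) = _
          have h2 := RingHom.congr_fun hφg r
          simp only [RingHom.comp_apply, AlgHom.toRingHom_eq_coe, RingHom.coe_coe] at h2
          rw [← h2, ← map_mul, Ideal.Quotient.lift_mk, map_mul]
          show π (φ r) * π y = r • π y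
          refine Eq.trans ?_ (Algebra.smul_def r (π y)).symm
          rfl }
    refine Module.Finite.of_surjective lmap fun x ↦ by
      obtain ⟨x, rfl⟩ := Ideal.Quotient.mk_surjective x
      obtain ⟨x, rfl⟩ := Ideal.Quotient.mk_surjective x
      exact ⟨Ideal.Quotient.mk J x, rfl⟩
  have : Algebra.QuasiFiniteAt R z := quasiFiniteAt_of_finite_quotient q z
  obtain ⟨r, hrz, hri, hrx⟩ := Algebra.zariskisMainProperty_iff.mp
    (Algebra.ZariskisMainProperty.of_finiteType (R := R) z)
  -- going down to the zero section of the coordinates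
  let S' := integralClosure R D
  have := SpecLib.isIntegrallyClosed_mvPolynomial O n
  have : FaithfulSMul R S' := (faithfulSMul_iff_algebraMap_injective _ _).mpr
    fun x y h ↦ hφD (congrArg Subtype.val h)
  let Q : Ideal R := RingHom.ker (MvPolynomial.eval (0 : Fin n → O))
  have : Q.IsPrime := RingHom.ker_isPrime _
  let z' : Ideal S' := z.comap (algebraMap S' D)
  have : z'.LiesOver q := ⟨by
    rw [Ideal.under, Ideal.comap_comap]
    exact Ideal.LiesOver.over (P := z) (p := q)⟩
  have hQq : Q ≤ q := fun f hf ↦ by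
    show MvPolynomial.eval x0 (MvPolynomial.map (IsLocalRing.residue O) f) = 0
    have hf' : MvPolynomial.eval (0 : Fin n → O) f = 0 := hf
    rw [MvPolynomial.eval_zero] at hf'
    rw [show MvPolynomial.eval x0 = MvPolynomial.constantCoeff from MvPolynomial.eval_zero,
      MvPolynomial.constantCoeff_map, hf', map_zero]
  obtain ⟨P', hP'z, hP', hP'Q⟩ := Ideal.exists_ideal_le_liesOver_of_le (p := Q) (q := q) z' hQq
  let r' : S' := ⟨r, hri⟩
  have hrP' : r' ∉ P' := fun h ↦ hrz (hP'z h)
  -- the quotient is `O`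
  let L := FractionRing (S' ⧸ P')
  let ι : O →+* L := ((algebraMap (S' ⧸ P') L).comp (Ideal.Quotient.mk P')).comp
    ((algebraMap R S').comp MvPolynomial.C)
  have hι : Function.Injective ι := by
    rw [injective_iff_map_eq_zero]
    intro a ha
    have h1 : algebraMap R S' (MvPolynomial.C a) ∈ P' := Ideal.Quotient.eq_zero_iff_mem.mp
      ((map_eq_zero_iff _ (IsFractionRing.injective (S' ⧸ P') L)).mp ha)
    rw [← Ideal.mem_comap] at h1
    have h2 : MvPolynomial.C a ∈ Q := (Ideal.mem_of_liesOver P' Q _).mpr h1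
    exact (MvPolynomial.eval_C (f := (0 : Fin n → O)) a).symm.trans h2
  have hιalg : algebraMap O L = ι := by
    refine RingHom.ext fun a ↦ ?_
    rw [IsScalarTower.algebraMap_apply O (S' ⧸ P') L, IsScalarTower.algebraMap_apply O S' (S' ⧸ P'),
      show algebraMap O S' a = algebraMap R S' (MvPolynomial.C a) from
        Subtype.ext (IsScalarTower.algebraMap_apply O R D a)]
    rfl
  let _ : Algebra K L := (IsFractionRing.lift (A := O) (K := K) hι).toAlgebra
  have : IsScalarTower O K L :=
    IsScalarTower.of_algebraMap_eq fun a ↦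
      (RingHom.congr_fun hιalg a).trans (IsFractionRing.lift_algebraMap hι a).symm
  let π : S' →+* L := (algebraMap (S' ⧸ P') L).comp (Ideal.Quotient.mk P')
  have hπR : ∀ f : R, π (algebraMap R S' f) = ι (MvPolynomial.eval 0 f) := fun f ↦ by
    have h1 : f - MvPolynomial.C (MvPolynomial.eval (0 : Fin n → O) f) ∈ Q := by
      show MvPolynomial.eval _ _ = 0
      simp
    have h2 := (Ideal.mem_of_liesOver P' Q _).mp h1
    rw [map_sub] at h2
    exact congrArg (algebraMap (S' ⧸ P') L) ((Ideal.Quotient.eq).mpr h2)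
  have hmem : ∀ s : S', ∃ a : O, π s = ι a := fun s ↦ by
    obtain ⟨p, hp, hps⟩ := Algebra.IsIntegral.isIntegral (R := R) s
    have h1 : IsIntegral O (π s) := ⟨p.map (MvPolynomial.eval 0), hp.map _, by
      rw [Polynomial.eval₂_map, show (algebraMap O L).comp (MvPolynomial.eval 0) =
        π.comp (algebraMap R S') from (by rw [hιalg]; exact (RingHom.ext fun f ↦ hπR f).symm), ← Polynomial.hom_eval₂, hps,
        map_zero]⟩
    obtain ⟨y, hy⟩ : ∃ y : K, algebraMap K L y = π s :=
      (minpoly.degree_eq_one_iff).mp (IsAlgClosed.degree_eq_one_of_irreducible K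
        (minpoly.irreducible (h1.tower_top (A := K))))
    rw [← hy] at h1
    obtain ⟨a, rfl⟩ := IsIntegrallyClosed.isIntegral_iff.mp
      ((isIntegral_algebraMap_iff (algebraMap K L).injective).mp h1)
    exact ⟨a, by rw [← hy, ← IsScalarTower.algebraMap_apply, hιalg]⟩
  obtain ⟨a, ha⟩ := hmem r'
  have hau : IsUnit a := by
    by_contra hna
    apply hrz
    have h1 : r' - algebraMap R S' (MvPolynomial.C a) ∈ P' := Ideal.Quotient.eq.mp
      (IsFractionRing.injective (S' ⧸ P') L ha)
    have h2 : algebraMap R S' (MvPolynomial.C a) ∈ z' := by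
      rw [← Ideal.mem_of_liesOver z' q]
      show MvPolynomial.eval x0 (MvPolynomial.map (IsLocalRing.residue O) (MvPolynomial.C a)) = 0
      rw [MvPolynomial.map_C, MvPolynomial.eval_C, (IsLocalRing.residue_eq_zero_iff a)]
      exact hna
    have h3 := add_mem (hP'z h1) h2
    rwa [sub_add_cancel] at h3
  have hr0 : π r' ≠ 0 := ha ▸ fun h0 ↦ hau.ne_zero ((map_eq_zero_iff ι hι).mp h0)
  choose m hm using hrx
  let val : D → L := fun x ↦ π ⟨_, hm x⟩ / π r' ^ m x
  have hval : ∀ (x : D) (j : ℕ) (s : S'), (s : D) = r ^ j * x → π s = π r' ^ j * val x := by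
    intro x j s hs
    have h1 : π s * π r' ^ m x = π r' ^ j * π ⟨_, hm x⟩ := by
      rw [← map_pow, ← map_pow, ← map_mul, ← map_mul]
      congr 1
      refine Subtype.ext ?_
      simp [r', hs]; ring
    rw [← mul_div_assoc, eq_div_iff (pow_ne_zero _ hr0), h1]
  let Θ : D →+* L :=
    { toFun := val
      map_one' := by simpa [r'] using (hval 1 0 1 (by simp)).symm
      map_zero' := by simpa using (hval 0 0 0 (by simp)).symm
      map_mul' := fun x y ↦ by
        have := hval (x * y) (m x + m y) (⟨_, hm x⟩ * ⟨_, hm y⟩) (by simp [pow_add]; ring)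
        rw [map_mul, hval x _ ⟨_, hm x⟩ rfl, hval y _ ⟨_, hm y⟩ rfl, pow_add] at this
        exact mul_left_cancel₀ (mul_ne_zero (pow_ne_zero _ hr0) (pow_ne_zero _ hr0))
          (this.symm.trans (by ring))
      map_add' := fun x y ↦ by
        have := hval (x + y) (m x + m y) (r' ^ m y * ⟨_, hm x⟩ + r' ^ m x * ⟨_, hm y⟩)
          (by simp [r', pow_add]; ring)
        rw [map_add, map_mul, map_mul, map_pow, map_pow, hval x _ ⟨_, hm x⟩ rfl,
          hval y _ ⟨_, hm y⟩ rfl, pow_add] at this
        exact mul_left_cancel₀ (mul_ne_zero (pow_ne_zero _ hr0) (pow_ne_zero _ hr0))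
          (this.symm.trans (by ring)) }
  have hΘ : ∀ x, ∃ b : O, Θ x = ι b := fun x ↦ by
    obtain ⟨b, hb⟩ := hmem ⟨_, hm x⟩
    obtain ⟨u, rfl⟩ := hau
    refine ⟨b * ((u⁻¹ : Oˣ) : O) ^ m x, ?_⟩
    show π _ / π r' ^ m x = _
    rw [hb, ha, div_eq_iff (pow_ne_zero _ (ha ▸ hr0)), ← map_pow, ← map_mul, mul_assoc, ← mul_pow,
      Units.inv_mul, one_pow, mul_one]
  choose sec hsec using hΘ
  have hsecO : ∀ c : O, sec (algebraMap O D c) = c := fun c ↦ hι (by
    rw [← hsec]
    have := hval (algebraMap O D c) 0 (algebraMap R S' (MvPolynomial.C c)) (by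
      rw [pow_zero, one_mul, IsScalarTower.algebraMap_apply O R D]; rfl)
    rw [pow_zero, one_mul, hπR, MvPolynomial.eval_C] at this
    exact this.symm)
  let σ : D →ₐ[O] O :=
    { toFun := sec
      map_one' := hι (by rw [← hsec, map_one, map_one])
      map_mul' := fun x y ↦ hι (by rw [← hsec, map_mul, map_mul, hsec, hsec])
      map_zero' := hι (by rw [← hsec, map_zero, map_zero])
      map_add' := fun x y ↦ hι (by rw [← hsec, map_add, map_add, hsec, hsec])
      commutes' := hsecO }
  exact ⟨σ.comp (Ideal.Quotient.mkₐ O P)⟩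

end FppfLib
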